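import Cfsg.Agent.TwoFusion.GLTwoThree.Model
import Cfsg.Agent.LocalThree.GramSplit
import Cfsg.Agent.Chars.Sums
import Cfsg.Agent.Chars.Count
import Cfsg.Agent.Chars.Induced

/-!
An involution with centraliser `GL(2,3)`: exceptional characters and class multiplication.
-/

set_option autoImplicit false
set_option linter.unusedSectionVars false
set_option maxRecDepth 8000

namespace Cfsg.Lib.GLTwoThree

open Subgroup Cfsg.Lib.Chars Cfsg.Lib.GramSplit Cfsg.Lib.Order9
open scoped ComplexConjugate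

universe u

def gram : Mat := [[2, 1, 0, 0], [1, 3, -1, -1], [0, -1, 2, 0], [0, -1, 0, 4]]

def prin : Fin 4 → ℤ := ![1, 0, 1, 1]

def sols : List (List Row) :=
  [[[0, 0, 0, 1], [0, 0, 0, 1], [0, 0, 0, 1], [0, 0, 1, 0], [0, 1, -1, 0], [0, 1, 0, -1], [1, 0, 0, 0], [1, 1, 0, 0]],
    [[0, 0, 0, 1], [0, 0, 0, 1], [0, 0, 0, 1], [0, 1, 0, -1], [0, 1, 0, 0], [1, 0, 1, 0], [1, 1, -1, 0]],
    [[0, 0, 0, 1], [0, 0, 0, 1], [0, 0, 1, -1], [0, 1, -1, -1], [0, 1, 0, 0], [1, 0, 0, 0], [1, 1, 0, 0]],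
    [[0, 0, 0, 1], [0, 0, 0, 1], [0, 0, 1, 0], [0, 1, -1, 0], [0, 1, 0, 0], [1, 0, 0, 1], [1, 1, 0, -1]]]

def cert : Cert :=
  (.branch [1,0,0,0] (.branch [1,1,0,0] (.branch [0,1,0,0] (.branch [0,1,-1,-1] (.branch [0,0,1,-1] (.branch
  [0,0,0,1] (.branch [0,0,0,1] .done (.last 3 [])) (.last 3 [])) (.last 2 [])) (.last 1 [])) (.branch [0,1,0,-1]
  (.branch [0,1,-1,0] (.branch [0,0,1,0] (.branch [0,0,0,1] (.branch [0,0,0,1] (.branch [0,0,0,1] .done (.last 3
  [])) (.last 3 [])) (.last 3 [])) (.last 2 [])) (.last 1 [])) (.branch [0,1,-1,0] (.last 1 []) (.branch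
  [0,1,-1,-1] (.last 1 []) (.last 1 []))))) (.last 0 [])) (.branch [1,0,0,1] (.branch [1,1,0,-1] (.branch
  [0,1,0,0] (.branch [0,1,-1,0] (.branch [0,0,1,0] (.branch [0,0,0,1] (.branch [0,0,0,1] .done (.last 3 []))
  (.last 3 [])) (.last 2 [])) (.last 1 [])) (.branch [0,1,0,1] (.bad [0,-2,-1,-1]) (.branch [0,1,0,-1] (.bad
  [0,-2,-1,1]) (.branch [0,1,-1,0] (.last 1 []) (.branch [0,1,-1,1] (.bad [0,-1,1,-1]) (.branch [0,1,-1,-1]
  (.bad [0,-1,1,1]) (.last 1 []))))))) (.last 0 [])) (.branch [1,0,0,-1] (.bad [-3,2,1,2]) (.branch [1,0,1,0]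
  (.branch [1,1,-1,0] (.branch [0,1,0,0] (.branch [0,1,0,-1] (.branch [0,0,0,1] (.branch [0,0,0,1] (.branch
  [0,0,0,1] .done (.last 3 [])) (.last 3 [])) (.last 3 [])) (.last 1 [])) (.branch [0,1,0,-1] (.last 1 [])
  (.last 1 []))) (.last 0 [])) (.branch [1,0,1,1] (.bad [-1,0,-1,-1]) (.branch [1,0,1,-1] (.bad [-1,0,-1,1])
  (.branch [1,0,-1,0] (.bad [-1,1,1,0]) (.branch [1,0,-1,1] (.bad [-1,0,1,-1]) (.branch [1,0,-1,-1] (.bad
  [-1,0,1,1]) (.branch [1,1,0,0] (.last 0 []) (.branch [1,1,0,1] (.bad [-1,-2,-1,-2]) (.branch [1,1,0,-1] (.last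
  0 []) (.branch [1,1,-1,0] (.last 0 []) (.branch [1,1,-1,1] (.bad [-1,0,1,-1]) (.branch [1,1,-1,-1] (.bad
  [-1,0,1,1]) (.last 0 []))))))))))))))))

theorem check_cert : check 4 sols [] cert gram [] [] = true := by decide +kernel

/-- The value at the involution belonging to a row. -/
def evz (r : Row) : ℤ := 3 * ent r 0 + ent r 1 - 2 * ent r 3

/-- The centraliser as an image of the model, with a single class of involutions. -/
structure Setup (G : Type u) [Group G] where
  φ : K48 →* G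
  inj : Function.Injective φ
  range : φ.range = centralizer ({φ zk} : Set G)
  one : ∀ k : K48, Invol k → IsConj (φ zk) (φ k)

variable {G : Type u} [Group G] [Finite G]

namespace Setup

variable (S : Setup G)
include S

theorem mem_range {x : G} : x ∈ centralizer ({S.φ zk} : Set G) ↔ ∃ k, S.φ k = x := by
  rw [← S.range]; exact Iff.rfl

theorem card_cent : Nat.card (centralizer ({S.φ zk} : Set G)) = 48 := by
  rw [← S.range, ← Nat.card_congr (MonoidHom.ofInjective S.inj).toEquiv, Nat.card_eq_fintype_card, card48]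

/-- The section is a trivial intersection set. -/
theorem ti {k k' : K48} {g : G} (hk : InSec k) (hk' : InSec k') (h : g * S.φ k * g⁻¹ = S.φ k') :
    g ∈ centralizer ({S.φ zk} : Set G) := by
  obtain ⟨n, hn⟩ := sec_pow k hk
  have e : g * S.φ zk * g⁻¹ = S.φ (k' ^ (n : ℕ)) := by
    rw [map_pow, ← h, conj_pow, ← map_pow, hn]
  have h1 : S.φ zk ≠ 1 := fun e1 => absurd (S.inj (e1.trans S.φ.map_one.symm)) (by decide +kernel)
  have hz : k' ^ (n : ℕ) = zk := by
    refine zk_pow k' hk' n (fun e1 => h1 ?_) (S.inj ?_)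
    · rw [e1, map_one] at e; exact conj_eq_one_iff.1 e
    · rw [map_mul, ← e, map_one, show g * S.φ zk * g⁻¹ * (g * S.φ zk * g⁻¹) = g * (S.φ zk * S.φ zk) * g⁻¹ by group,
        ← map_mul, show zk * zk = 1 by decide +kernel, map_one, mul_one, mul_inv_cancel]
  rw [hz] at e
  exact mem_centralizer_singleton_iff.2 (mul_inv_eq_iff_eq_mul.1 e)

/-- The model as the centraliser. -/
noncomputable def iso : K48 ≃* centralizer ({S.φ zk} : Set G) :=
  (MonoidHom.ofInjective S.inj).trans (MulEquiv.subgroupCongr S.range)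

theorem iso_coe (k : K48) : (S.iso k : G) = S.φ k := rfl

/-- A function of the model on the centraliser. -/
noncomputable def pull (f : K48 → ℤ) : centralizer ({S.φ zk} : Set G) → ℂ := fun x => (f (S.iso.symm x) : ℂ)

theorem inner_pull [Fintype (centralizer ({S.φ zk} : Set G))] (f : K48 → ℤ)
    (F : centralizer ({S.φ zk} : Set G) → ℂ) :
    Cfsg.classInner (S.pull f) F = (48 : ℂ)⁻¹ * ∑ k, (f k : ℂ) * conj (F (S.iso k)) := by
  rw [classInner_def, S.card_cent, ← Equiv.sum_comp S.iso.toEquiv (fun x => S.pull f x * conj (F x))]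
  simp [pull]

theorem gen_pull (i : Fin 4) :
    Cfsg.IsGeneralizedCharacter (centralizer ({S.φ zk} : Set G)) (S.pull (vf i)) :=
  IsGeneralizedCharacter.comp_hom (gen_vf i) S.iso.symm.toMonoidHom

/-- Induction does not change a special function on its support. -/
theorem ind_apply [Fintype G] (i : Fin 4) {k : K48} (hk : InSec k) :
    Cfsg.indFun (centralizer ({S.φ zk} : Set G)) (S.pull (vf i)) (S.iso k) = S.pull (vf i) (S.iso k) := by
  classical
  let H := centralizer ({S.φ zk} : Set G)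
  have hcl := isClassFunction_generalized (S.gen_pull i)
  have hsupp : ∀ g : G, Cfsg.extendByZero H (S.pull (vf i)) (g⁻¹ * S.iso k * g) =
      if g ∈ H then S.pull (vf i) (S.iso k) else 0 := by
    intro g
    split_ifs with hg
    · rw [extendByZero_mem _ (H.mul_mem (H.mul_mem (H.inv_mem hg) (S.iso k).2) hg)]
      have := hcl (S.iso k) (⟨g, hg⟩ : H)⁻¹
      rw [inv_inv] at this
      exact this
    · by_cases hm : g⁻¹ * S.iso k * g ∈ H
      · rw [extendByZero_mem _ hm]
        by_contra hne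
        refine hg (inv_mem_iff.1 (S.ti (k' := S.iso.symm ⟨_, hm⟩) hk ?_ ?_))
        · by_contra hb
          exact hne (by simp only [pull, bad i _ hb, Int.cast_zero])
        · rw [inv_inv, ← S.iso_coe (S.iso.symm _), MulEquiv.apply_symm_apply]; rfl
      · exact extendByZero_not_mem _ hm
  rw [indFun_apply, Finset.sum_congr rfl fun g _ => hsupp g, Finset.sum_ite, Finset.sum_const_zero, add_zero,
    Finset.sum_const, nsmul_eq_mul, ← Fintype.card_subtype, ← Nat.card_eq_fintype_card, ← mul_assoc,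
    show Nat.card {g : G // g ∈ H} = Nat.card H from rfl,
    inv_mul_cancel₀ (Nat.cast_ne_zero.2 Nat.card_pos.ne'), one_mul]

/-- The inner products of an induced function with the irreducible characters. -/
theorem exists_mults [Fintype G] : ∃ n : Fin 4 → Cfsg.IrrCharacter G → ℤ,
    (∀ i (χ : Cfsg.IrrCharacter G), ∑ k, (vf i k : ℂ) * conj ((χ : G → ℂ) (S.φ k)) = 48 * (n i χ : ℂ)) ∧
    (∀ i j, ∑ χ, n i χ * n j χ = get gram i j + prin i * prin j) ∧
    (∀ i, n i ⟨_, isIrrCharacter_one⟩ = prin i) ∧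
    ∀ i, ∑ χ, n i χ * (deg (χ : G → ℂ) : ℤ) = 0 := by
  classical
  let H := centralizer ({S.φ zk} : Set G)
  have := Fintype.ofFinite H
  have hgen : ∀ i, Cfsg.IsGeneralizedCharacter G (Cfsg.indFun H (S.pull (vf i))) :=
    fun i => IsGeneralizedCharacter.indFun (S.gen_pull i)
  choose n hn using fun (i : Fin 4) (χ : Cfsg.IrrCharacter G) => IsGeneralizedCharacter.exists_mult (hgen i) χ.2
  have hval : ∀ i (χ : Cfsg.IrrCharacter G), ∑ k, (vf i k : ℂ) * conj ((χ : G → ℂ) (S.φ k)) = 48 * (n i χ : ℂ) := by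
    intro i χ
    rw [← hn, frobenius_reciprocity _ _ (isClassFunction_irr χ), S.inner_pull, mul_inv_cancel_left₀ (by norm_num)]
    exact Finset.sum_congr rfl fun k _ => by rw [S.iso_coe]
  refine ⟨n, hval, fun i j => ?_, fun i => ?_, fun i => ?_⟩
  · apply Int.cast_injective (α := ℂ)
    have hj := classFunction_expand (isClassFunction_indFun H (S.pull (vf j)))
    have e1 : Cfsg.classInner (Cfsg.indFun H (S.pull (vf i))) (Cfsg.indFun H (S.pull (vf j))) =
        ((∑ χ, n i χ * n j χ : ℤ) : ℂ) := by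
      conv_lhs => rw [hj]
      rw [classInner_sum_right]
      push_cast
      refine Finset.sum_congr rfl fun χ _ => ?_
      rw [classInner_smul_right, hn, hn, mul_comm]
      simp
    rw [← e1, frobenius_reciprocity _ _ (isClassFunction_indFun _ _), S.inner_pull]
    rw [Finset.sum_congr rfl (g := fun k => ((vf i k * vf j k : ℤ) : ℂ)) fun k _ => ?_, ← Int.cast_sum,
      gram_sum]
    · push_cast; rw [inv_mul_cancel_left₀ (by norm_num)]; rfl
    · by_cases hx : InSec k
      · rw [S.ind_apply j hx]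
        simp [pull]
      · rw [bad i k hx]; simp
  · apply Int.cast_injective (α := ℂ)
    rw [← hn, frobenius_reciprocity _ _ (isClassFunction_irr _), S.inner_pull]
    simp only [map_one, mul_one]
    rw [← Int.cast_sum, prin_sum]
    push_cast; rw [inv_mul_cancel_left₀ (by norm_num)]; rfl
  · apply Int.cast_injective (α := ℂ)
    push_cast
    have := classFunction_expand_apply (isClassFunction_indFun H (S.pull (vf i))) 1
    rw [indFun_one, show S.pull (vf i) 1 = 0 by
      simp [pull, bad i 1 (by decide +kernel)], mul_zero] at this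
    rw [this]
    exact Finset.sum_congr rfl fun χ _ => by rw [hn, irr_apply_one_eq_deg]

/-- The sum in the class multiplication formula of the class of involutions. -/
noncomputable def tsum [Fintype G] (k : K48) : ℂ :=
  ∑ χ : Cfsg.IrrCharacter G,
    (χ : G → ℂ) (S.φ zk) * (χ : G → ℂ) (S.φ zk) * conj ((χ : G → ℂ) (S.φ k)) / (χ : G → ℂ) 1

theorem pairs {c : K48} (hc : InSec c) :
    Nat.card {p : G × G // IsConj (S.φ zk) p.1 ∧ IsConj (S.φ zk) p.2 ∧ p.1 * p.2 = S.φ c} = npairs c := by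
  have hinv : ∀ x, IsConj (S.φ zk) x → x * x = 1 ∧ x ≠ 1 := by
    intro x hx
    obtain ⟨g, rfl⟩ := isConj_iff.1 hx
    refine ⟨?_, fun e => absurd (S.inj ((conj_eq_one_iff.1 e).trans S.φ.map_one.symm)) (by decide +kernel)⟩
    rw [show g * S.φ zk * g⁻¹ * (g * S.φ zk * g⁻¹) = g * (S.φ zk * S.φ zk) * g⁻¹ by group,
        ← map_mul, show zk * zk = 1 by decide +kernel, map_one, mul_one, mul_inv_cancel]
  rw [npairs, ← Nat.card_eq_finsetCard]
  refine (Nat.card_congr (Equiv.ofBijective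
    (fun j => (⟨(S.φ j.1, (S.φ j.1)⁻¹ * S.φ c), ?_⟩ :
      {p : G × G // IsConj (S.φ zk) p.1 ∧ IsConj (S.φ zk) p.2 ∧ p.1 * p.2 = S.φ c})) ⟨?_, ?_⟩)).symm
  · obtain ⟨h1, h2⟩ := (Finset.mem_filter.1 j.2).2
    refine ⟨S.one _ h1, ?_, mul_inv_cancel_left _ _⟩
    rw [← map_inv, ← map_mul]
    exact S.one _ h2
  · intro v w h
    exact Subtype.ext (S.inj (congrArg (fun z => z.1.1) h))
  · rintro ⟨⟨x, y⟩, h1, h2, h3⟩
    obtain ⟨hx, hx1⟩ := hinv x h1
    obtain ⟨hy, hy1⟩ := hinv y h2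
    have hconj : x * S.φ c * x⁻¹ = S.φ c⁻¹ := by
      rw [map_inv, ← h3, mul_inv_rev]
      calc x * (x * y) * x⁻¹ = (x * x) * y * x⁻¹ := by group
        _ = y⁻¹ * (y * y) * x⁻¹ := by rw [hx]; group
        _ = y⁻¹ * x⁻¹ := by rw [hy]; group
    have hcinv : InSec c⁻¹ := (by decide +kernel : ∀ c, InSec c → InSec c⁻¹) c hc
    obtain ⟨j, rfl⟩ := S.mem_range.1 (S.ti hc hcinv hconj)
    obtain rfl : y = (S.φ j)⁻¹ * S.φ c := eq_inv_mul_iff_mul_eq.2 h3
    refine ⟨⟨j, Finset.mem_filter.2 ⟨Finset.mem_univ _, ⟨S.inj ?_, ?_⟩, ⟨S.inj ?_, ?_⟩⟩⟩, rfl⟩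
    · rw [map_mul, map_one]; exact hx
    · intro e; subst e; exact hx1 S.φ.map_one
    · simp only [map_mul, map_inv, map_one]; exact hy
    · intro e; exact hy1 (by rw [← map_inv, ← map_mul, e, map_one])

theorem formula [Fintype G] {c : K48} (hc : InSec c) :
    (Nat.card G : ℂ) * S.tsum c = 2304 * (npairs c : ℂ) := by
  have h := class_mult_formula (G := G) (S.φ zk) (S.φ zk) (S.φ c)
  have hG0 : (Nat.card G : ℂ) ≠ 0 := Nat.cast_ne_zero.2 Nat.card_pos.ne'
  have hcard : (Nat.card {x : G // IsConj (S.φ zk) x} : ℂ) * 48 = (Nat.card G : ℂ) := by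
    have := card_isConj_mul (S.φ zk)
    rw [S.card_cent] at this
    exact_mod_cast this
  rw [S.pairs hc] at h
  unfold tsum
  rw [h, ← hcard]
  generalize (∑ χ : Cfsg.IrrCharacter G,
    (χ : G → ℂ) (S.φ zk) * (χ : G → ℂ) (S.φ zk) * conj ((χ : G → ℂ) (S.φ c)) / (χ : G → ℂ) 1) = T
  have hm : (Nat.card {x : G // IsConj (S.φ zk) x} : ℂ) ≠ 0 := Nat.cast_ne_zero.2 (card_isConj_pos _).ne'
  field_simp
  ring

set_option maxHeartbeats 1000000 in
theorem decomp [Fintype G] : ∃ (sol : List Row) (L : List (Row × ℤ)), sol ∈ sols ∧ L.map Prod.fst = sol ∧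
    (∀ i : Fin 4, prin i + (L.map fun p => ent p.1 i * p.2).sum = 0) ∧
    (∀ i : Fin 4, (Nat.card G : ℚ) * ((prin i : ℚ) + (L.map fun p => ((evz p.1 * evz p.1 * ent p.1 i : ℤ) : ℚ) / (p.2 : ℚ)).sum) =
      48 * ((∑ k, vf i k * (npairs k : ℤ) : ℤ) : ℚ)) ∧
    ∀ p ∈ L, p.2 ≠ 0 ∧ (16 : ℤ) ∣ p.2 + 5 * evz p.1 - 2 * ent p.1 0 + 2 * ent p.1 1 - 4 * ent p.1 2 := by
  classical
  obtain ⟨n, hn, hgram, hprin, hdeg⟩ := S.exists_mults
  let o : Cfsg.IrrCharacter G := ⟨_, isIrrCharacter_one⟩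
  let n' : ℕ → Cfsg.IrrCharacter G → ℤ := fun i x => if h : i < 4 then n ⟨i, h⟩ x else 0
  have hn' : ∀ (i : Fin 4) x, n' i x = n i x := fun i x => by simp [n', i.2]
  obtain ⟨L', hnd, hLs, hrest, sol, hsol, hp⟩ := sound sols n' (by simp) cert gram [] [] check_cert (Finset.univ.erase o)
    (fun i hi j hj => by
      have e := hgram ⟨i, hi⟩ ⟨j, hj⟩
      rw [← Finset.add_sum_erase _ _ (Finset.mem_univ o)] at e
      simp only [n', hi, hj, dite_true]
      simp only [o, hprin] at e ⊢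
      linarith only [e])
    (fun x _ => List.not_mem_nil)
  obtain ⟨L, hL, hmap⟩ := exists_perm_map (fun x => nrm (col 4 n' x)) (by simpa using hp)
  have hsgn : ∀ x, ∃ σ : ℤ, σ * σ = 1 ∧ ∀ i : Fin 4, n i x = σ * ent (nrm (col 4 n' x)) i := by
    intro x
    refine ⟨if nrm (col 4 n' x) = col 4 n' x then 1 else -1, by split_ifs <;> rfl, fun i => ?_⟩
    have hc' : ent (col 4 n' x) i = n i x := by rw [ent_col i.2, hn']
    split_ifs with he
    · rw [he, hc', one_mul]
    · rw [(nrm_sign _).resolve_left he]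
      have e : ent ((col 4 n' x).map Neg.neg) i = -ent (col 4 n' x) i := by
        simp [ent, col, List.getD_eq_getElem?_getD, i.2]
      rw [e, hc']; ring
  choose sg hsg hrow using hsgn
  have hnd' : L.Nodup := hL.nodup_iff.2 hnd
  have hoL : o ∉ L := fun hm => (Finset.mem_erase.1 (hLs o (hL.mem_iff.1 hm))).1 rfl
  have hzero : ∀ x, x ≠ o → x ∉ L → ∀ i : Fin 4, n i x = 0 := fun x hx hxL i => by
    have := hrest x (Finset.mem_erase.2 ⟨hx, Finset.mem_univ _⟩) (fun hm => hxL (hL.mem_iff.2 hm)) i i.2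
    rwa [hn'] at this
  have split : ∀ {M : Type} [AddCommMonoid M] (f : Cfsg.IrrCharacter G → M),
      (∀ x, (∀ i, n i x = 0) → f x = 0) → ∑ x, f x = f o + (L.map f).sum := by
    intro M _ f hf
    rw [← List.sum_toFinset _ hnd',
      ← Finset.sum_subset (Finset.subset_univ (insert o L.toFinset)) fun x _ hx => ?_]
    · rw [Finset.sum_insert (by simpa using hoL)]
    · simp only [Finset.mem_insert, List.mem_toFinset, not_or] at hx
      exact hf x (hzero x hx.1 hx.2)
  have hcomb : ∀ (x : Cfsg.IrrCharacter G) (a b c e : ℤ),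
      ∑ k, ((a * vf 0 k + b * vf 1 k + c * vf 2 k + e * vf 3 k : ℤ) : ℂ) * conj ((x : G → ℂ) (S.φ k)) =
        48 * ((a * n 0 x + b * n 1 x + c * n 2 x + e * n 3 x : ℤ) : ℂ) := by
    intro x a b c e
    push_cast
    simp only [add_mul, Finset.sum_add_distrib, mul_assoc, ← Finset.mul_sum, hn]
    ring
  have hcen : ∀ x : Cfsg.IrrCharacter G,
      (x : G → ℂ) (S.φ zk) = ((3 * n 0 x + n 1 x - 2 * n 3 x : ℤ) : ℂ) := by
    intro x
    have h := hcomb x 3 1 0 (-2)
    rw [Finset.sum_congr rfl (g := fun k => if k = zk then (48 : ℂ) * conj ((x : G → ℂ) (S.φ zk)) else 0) fun k _ => ?_,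
      Finset.sum_ite_eq' _ zk, if_pos (Finset.mem_univ _)] at h
    · have h' := congrArg conj (mul_left_cancel₀ (by norm_num) h)
      rw [Complex.conj_conj, map_intCast] at h'
      rw [h']; push_cast; ring
    · have e := ind_center k
      split_ifs at e ⊢ with hk
      · subst hk
        rw [show (3 * vf 0 zk + 1 * vf 1 zk + 0 * vf 2 zk + -2 * vf 3 zk : ℤ) = 48 by linarith]
        norm_num
      · rw [show (3 * vf 0 k + 1 * vf 1 k + 0 * vf 2 k + -2 * vf 3 k : ℤ) = 0 by linarith]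
        simp
  have hevz : ∀ x, (3 * n 0 x + n 1 x - 2 * n 3 x : ℤ) = sg x * evz (nrm (col 4 n' x)) := fun x => by
    rw [hrow x 0, hrow x 1, hrow x 3, evz]
    show _ = sg x * (3 * ent (nrm (col 4 n' x)) ((0 : Fin 4) : ℕ) + ent (nrm (col 4 n' x)) ((1 : Fin 4) : ℕ)
      - 2 * ent (nrm (col 4 n' x)) ((3 : Fin 4) : ℕ))
    ring
  refine ⟨sol, L.map fun x => (nrm (col 4 n' x), sg x * deg (x : G → ℂ)), hsol, ?_, fun i => ?_, fun i => ?_, ?_⟩
  · rw [List.map_map]; exact hmap
  · have h1 : (deg (o : G → ℂ) : ℤ) = 1 := by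
      have := irr_apply_one_eq_deg o
      have h1 : (deg (o : G → ℂ) : ℂ) = 1 := this.symm.trans rfl
      exact_mod_cast h1
    have := hdeg i
    rw [split (fun x => n i x * (deg (x : G → ℂ) : ℤ)) (fun x hx => by simp [hx i]), hprin, h1, mul_one] at this
    rw [← this, List.map_map]
    refine congrArg (fun t => prin i + List.sum t) (List.map_congr_left fun x _ => ?_)
    rw [Function.comp_apply, hrow x i]; ring
  · apply Rat.cast_injective (α := ℂ)
    have h1 : ∑ k, (vf i k : ℂ) * ((Nat.card G : ℂ) * S.tsum k) = 2304 * ((∑ k, vf i k * (npairs k : ℤ) : ℤ) : ℂ) := by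
      push_cast
      rw [Finset.mul_sum]
      refine Finset.sum_congr rfl fun k _ => ?_
      by_cases hk : InSec k
      · rw [S.formula hk]; ring
      · rw [bad i k hk]; simp
    have h2 : ∑ k, (vf i k : ℂ) * S.tsum k = 48 * ∑ χ : Cfsg.IrrCharacter G,
        (χ : G → ℂ) (S.φ zk) * (χ : G → ℂ) (S.φ zk) * (n i χ : ℂ) / (χ : G → ℂ) 1 := by
      simp only [tsum, Finset.mul_sum]
      rw [Finset.sum_comm]
      refine Finset.sum_congr rfl fun χ _ => ?_
      rw [show (48 : ℂ) * ((χ : G → ℂ) (S.φ zk) * (χ : G → ℂ) (S.φ zk) * (n i χ : ℂ) / (χ : G → ℂ) 1) =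
        (χ : G → ℂ) (S.φ zk) * (χ : G → ℂ) (S.φ zk) / (χ : G → ℂ) 1 * (48 * (n i χ : ℂ)) by ring, ← hn,
        Finset.mul_sum]
      exact Finset.sum_congr rfl fun k _ => by ring
    rw [Finset.sum_congr rfl (g := fun k => (Nat.card G : ℂ) * ((vf i k : ℂ) * S.tsum k)) fun k _ => by ring,
      ← Finset.mul_sum, h2, split _ (fun x hx => by simp [hx i])] at h1
    have hsum : (L.map fun x : Cfsg.IrrCharacter G =>
        (x : G → ℂ) (S.φ zk) * (x : G → ℂ) (S.φ zk) * (n i x : ℂ) / (x : G → ℂ) 1) =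
        L.map fun x => (((evz (nrm (col 4 n' x)) * evz (nrm (col 4 n' x)) * ent (nrm (col 4 n' x)) i : ℤ) : ℂ) /
          ((sg x * deg (x : G → ℂ) : ℤ) : ℂ)) := by
      refine List.map_congr_left fun x _ => ?_
      rw [hcen, hevz, hrow x i, irr_apply_one_eq_deg]
      rcases mul_self_eq_one_iff.1 (hsg x) with r | r <;> rw [r] <;> push_cast <;> ring
    rw [hsum] at h1
    simp only [o, hprin] at h1
    push_cast
    rw [List.map_map]
    simp only [Function.comp_def]
    simp only [one_mul, div_one] at h1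
    push_cast at h1 ⊢
    simp only [List.map_map, Function.comp_def, Int.cast_mul, Int.cast_natCast] at h1 ⊢
    linear_combination (1 / 48 : ℂ) * h1
  · intro p hp'
    obtain ⟨x, hx, rfl⟩ := List.mem_map.1 hp'
    refine ⟨mul_ne_zero (fun e => by have := hsg x; rw [e] at this; simp at this)
      (Int.natCast_ne_zero.2 (deg_irr_pos x).ne'), ?_⟩
    -- the multiplicity of a character of degree three of the centraliser
    let H := centralizer ({S.φ zk} : Set G)
    obtain ⟨w, hw⟩ : ∃ w : ℤ, (48 : ℂ)⁻¹ * ∑ k, (sig k : ℂ) * conj ((x : G → ℂ) (S.φ k)) = (w : ℂ) := by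
      have := Fintype.ofFinite H
      obtain ⟨w, hw⟩ := IsGeneralizedCharacter.exists_mult (IsGeneralizedCharacter.indFun
        (IsGeneralizedCharacter.comp_hom gen_sig S.iso.symm.toMonoidHom)) x.2
      refine ⟨w, ?_⟩
      rw [← hw, frobenius_reciprocity _ _ (isClassFunction_irr x)]
      exact (S.inner_pull sig (fun h => (x : G → ℂ) h)).symm
    have hd : conj ((x : G → ℂ) (S.φ 1)) = ((deg (x : G → ℂ) : ℤ) : ℂ) := by
      rw [map_one, irr_apply_one_eq_deg]; simp
    have hsplit : ∑ k, (((48 * sig k + (6 * vf 0 k - 6 * vf 1 k + 12 * vf 2 k)) : ℤ) : ℂ) * conj ((x : G → ℂ) (S.φ k)) =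
        144 * (deg (x : G → ℂ) : ℂ) + 720 * ((3 * n 0 x + n 1 x - 2 * n 3 x : ℤ) : ℂ) := by
      rw [Finset.sum_congr rfl fun k _ => show _ = (if k = 1 then (144 : ℂ) * (deg (x : G → ℂ) : ℂ) else 0) +
          (if Invol k then (48 : ℂ) * (sig k : ℂ) * ((3 * n 0 x + n 1 x - 2 * n 3 x : ℤ) : ℂ) else 0) from ?_,
        Finset.sum_add_distrib, Finset.sum_ite_eq' _ (1 : K48), if_pos (Finset.mem_univ _), ← Finset.sum_filter,
        ← Finset.sum_mul, ← Finset.mul_sum, ← Int.cast_sum, sum_invol]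
      · norm_num
      · rw [ind_sig k]
        by_cases h1 : k = 1
        · subst h1
          rw [if_pos rfl, if_pos rfl, if_neg (by decide +kernel), hd, add_zero]
          push_cast; ring
        · rw [if_neg h1, if_neg h1, zero_add]
          by_cases h2 : Invol k
          · rw [if_pos h2, if_pos h2]
            obtain ⟨g, hg⟩ := isConj_iff.1 (S.one k h2)
            rw [← hg, isClassFunction_irr x, hcen, map_intCast]
            push_cast; ring
          · rw [if_neg h2, if_neg h2]; simp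
    have e6 := hcomb x 6 (-6) 12 0
    have hall : (48 : ℂ) * (48 * (w : ℂ)) + 48 * ((6 * n 0 x - 6 * n 1 x + 12 * n 2 x : ℤ) : ℂ) =
        144 * (deg (x : G → ℂ) : ℂ) + 720 * ((3 * n 0 x + n 1 x - 2 * n 3 x : ℤ) : ℂ) := by
      rw [← hsplit, ← hw, mul_inv_cancel_left₀ (by norm_num)]
      rw [show ((6 * n 0 x - 6 * n 1 x + 12 * n 2 x : ℤ) : ℂ) = ((6 * n 0 x + -6 * n 1 x + 12 * n 2 x + 0 * n 3 x : ℤ) : ℂ) by
        push_cast; ring, ← e6, Finset.mul_sum, ← Finset.sum_add_distrib]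
      exact Finset.sum_congr rfl fun k _ => by push_cast; ring
    have hint : 48 * w + (6 * n 0 x - 6 * n 1 x + 12 * n 2 x) =
        3 * (deg (x : G → ℂ) : ℤ) + 15 * (3 * n 0 x + n 1 x - 2 * n 3 x) := by
      apply Int.cast_injective (α := ℂ)
      push_cast at hall ⊢
      linear_combination (1 / 48 : ℂ) * hall
    rw [hevz, hrow x 0, hrow x 1, hrow x 2] at hint
    simp only [Fin.val_zero, Fin.val_one, Fin.val_two] at hint ⊢
    have hs := hsg x
    rcases mul_self_eq_one_iff.1 hs with r | r <;> rw [r] at hint ⊢ <;> omega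

end Setup

end Cfsg.Lib.GLTwoThree
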