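import Cfsg.Prelude.Def_Transfer
import Cfsg.Agent.TwoFusion.GLTwoThree.Chars
import Cfsg.Agent.TwoFusion.TransferApps

/-!
The order of a group with an involution whose centraliser is `GL(2,3)` and without a quotient of order two.
-/

set_option autoImplicit false
set_option maxRecDepth 8000

namespace Cfsg.Lib.GLTwoThree

open Subgroup Cfsg.Lib.GramSplit Cfsg.Lib.Order9

universe u

/-! ### The arithmetic -/

theorem recip_cases {E : ℤ} (hE : E % 16 = 12) :
    16 / (E : ℚ) - 9 / (1 + (E : ℚ)) ≤ 2 / 3 ∧ (16 / (E : ℚ) - 9 / (1 + (E : ℚ)) < 3 / 10 ∨ E = 12) := by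
  by_cases e : E = 12
  · subst e; norm_num
  by_cases e2 : E = -4
  · subst e2; norm_num
  have hE1 : (E : ℚ) * (1 + E) > 0 := by
    rcases (show E ≤ -20 ∨ 28 ≤ E by omega) with h | h
    · have : (E : ℚ) ≤ -20 := by exact_mod_cast h
      nlinarith
    · have : (28 : ℚ) ≤ E := by exact_mod_cast h
      nlinarith
  have e3 : 16 / (E : ℚ) - 9 / (1 + (E : ℚ)) = (16 + 7 * E) / ((E : ℚ) * (1 + E)) := by
    rw [div_sub_div _ _ (left_ne_zero_of_mul hE1.ne') (right_ne_zero_of_mul hE1.ne')]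
    congr 1; ring
  rw [e3]
  have hlt : (16 + 7 * E : ℚ) / ((E : ℚ) * (1 + E)) < 3 / 10 := by
    rw [div_lt_iff₀ hE1]
    rcases (show E ≤ -20 ∨ 28 ≤ E by omega) with h | h
    · have : (E : ℚ) ≤ -20 := by exact_mod_cast h
      nlinarith
    · have : (28 : ℚ) ≤ E := by exact_mod_cast h
      nlinarith
  exact ⟨le_of_lt (lt_trans hlt (by norm_num)), Or.inl hlt⟩

theorem arith_zero {B E : ℤ} (hB : B % 16 = 5) (hE : E % 16 = 12)
    (h : 16 / (E : ℚ) - 9 / (1 + (E : ℚ)) = 1 - 2 / (B : ℚ)) : False := by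
  obtain ⟨h1, h2⟩ := recip_cases hE
  rcases (show B ≤ -11 ∨ B = 5 ∨ 21 ≤ B by omega) with hb | rfl | hb
  · have : (B : ℚ) ≤ -11 := by exact_mod_cast hb
    have : (2 : ℚ) / B ≤ 0 := div_nonpos_of_nonneg_of_nonpos (by norm_num) (by linarith)
    linarith
  · rcases h2 with h2 | rfl
    · norm_num at h; linarith
    · norm_num at h
  · have : (21 : ℚ) ≤ B := by exact_mod_cast hb
    have : (2 : ℚ) / B ≤ 2 / 21 := by gcongr
    linarith

theorem arith_two {A E : ℤ} (hA : A % 16 = 10) (hE : E % 16 = 12)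
    (h : 16 / (E : ℚ) - 9 / (1 + (E : ℚ)) = 1 + 8 / (A : ℚ) - 18 / ((A : ℚ) + 1)) : A = 10 ∨ A = 26 := by
  obtain ⟨h1, -⟩ := recip_cases hE
  by_contra hc
  rcases (show A ≤ -6 ∨ 42 ≤ A by omega) with ha | ha
  · have ha' : (A : ℚ) ≤ -6 := by exact_mod_cast ha
    have : 8 / (A : ℚ) - 18 / ((A : ℚ) + 1) = (8 - 10 * A) / ((A : ℚ) * (A + 1)) := by
      rw [div_sub_div _ _ (by linarith) (by linarith)]; congr 1; ring
    have h0 : (0 : ℚ) ≤ (8 - 10 * A) / ((A : ℚ) * (A + 1)) := div_nonneg (by linarith) (by nlinarith)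
    linarith
  · have ha' : (42 : ℚ) ≤ A := by exact_mod_cast ha
    have : 8 / (A : ℚ) - 18 / ((A : ℚ) + 1) = -((10 * A - 8) / ((A : ℚ) * (A + 1))) := by
      rw [div_sub_div _ _ (by linarith) (by linarith), ← neg_div]; congr 1; ring
    have h0 : (10 * (A : ℚ) - 8) / ((A : ℚ) * (A + 1)) < 1 / 3 := by
      rw [div_lt_iff₀ (by nlinarith)]; nlinarith
    linarith

theorem arith_three {B H : ℤ} (hB : B % 16 = 5) (hH : H % 16 = 2)
    (h : 36 / (H : ℚ) - 1 / (1 + (H : ℚ)) = 1 - 2 / (B : ℚ)) : False := by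
  have hb : -(2 / 11 : ℚ) ≤ 2 / (B : ℚ) ∧ 2 / (B : ℚ) ≤ 2 / 5 ∧ (B = 5 ∨ 2 / (B : ℚ) ≤ 2 / 21) := by
    rcases (show B ≤ -11 ∨ B = 5 ∨ 21 ≤ B by omega) with hb | rfl | hb
    · have hb' : (B : ℚ) ≤ -11 := by exact_mod_cast hb
      have e1 : (2 : ℚ) / B ≤ 0 := div_nonpos_of_nonneg_of_nonpos (by norm_num) (by linarith)
      have e2 : -(2 / 11 : ℚ) ≤ 2 / B := by
        rw [le_div_iff_of_neg (by linarith)]
        linarith
      exact ⟨e2, le_trans e1 (by norm_num), Or.inr (le_trans e1 (by norm_num))⟩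
    · norm_num
    · have hb' : (21 : ℚ) ≤ B := by exact_mod_cast hb
      have e1 : (2 : ℚ) / B ≤ 2 / 21 := by gcongr
      have e2 : (0 : ℚ) ≤ 2 / B := by positivity
      exact ⟨by linarith, le_trans e1 (by norm_num), Or.inr e1⟩
  obtain ⟨hb1, hb2, hb3⟩ := hb
  rcases (show H ≤ -14 ∨ H = 2 ∨ H = 18 ∨ H = 34 ∨ H = 50 ∨ 66 ≤ H by omega) with hh | rfl | rfl | rfl | rfl | hh
  · have hh' : (H : ℚ) ≤ -14 := by exact_mod_cast hh
    have e : 36 / (H : ℚ) - 1 / (1 + (H : ℚ)) = (35 * H + 36) / ((H : ℚ) * (1 + H)) := by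
      rw [div_sub_div _ _ (by linarith) (by linarith)]; congr 1; ring
    have : (35 * H + 36) / ((H : ℚ) * (1 + H)) ≤ 0 := div_nonpos_of_nonpos_of_nonneg (by linarith) (by nlinarith)
    linarith
  · norm_num at h; linarith
  · norm_num at h; linarith
  · have hB0 : (B : ℚ) ≠ 0 := Int.cast_ne_zero.2 (by omega)
    norm_num at h
    field_simp at h
    norm_cast at h
    omega
  · rcases hb3 with rfl | hb3
    · norm_num at h
    · norm_num at h; linarith
  · have hh' : (66 : ℚ) ≤ H := by exact_mod_cast hh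
    have e : 36 / (H : ℚ) - 1 / (1 + (H : ℚ)) = (35 * H + 36) / ((H : ℚ) * (1 + H)) := by
      rw [div_sub_div _ _ (by linarith) (by linarith)]; congr 1; ring
    have : (35 * H + 36) / ((H : ℚ) * (1 + H)) < 3 / 5 := by rw [div_lt_iff₀ (by nlinarith)]; nlinarith
    linarith

namespace Setup

variable {G : Type u} [Group G] [Finite G] (S : Setup G)
include S

theorem order : Nat.card G = 5616 ∨ Nat.card G = 7920 := by
  classical
  have := Fintype.ofFinite G
  obtain ⟨sol, L, hsol, hL, hdeg, hsum, hmem⟩ := S.decomp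
  have hG : (0 : ℚ) < (Nat.card G : ℚ) := by exact_mod_cast Nat.card_pos
  have E0 := hsum 0
  have E2 := hsum 2
  rw [sum_npairs.1] at E0
  rw [sum_npairs.2] at E2
  have key : (prin 0 : ℚ) + (L.map fun p => ((evz p.1 * evz p.1 * ent p.1 0 : ℤ) : ℚ) / (p.2 : ℚ)).sum =
      2 * ((prin 2 : ℚ) + (L.map fun p => ((evz p.1 * evz p.1 * ent p.1 2 : ℤ) : ℚ) / (p.2 : ℚ)).sum) :=
    mul_left_cancel₀ hG.ne' (by push_cast at E0 E2 ⊢; simp only [Fin.val_zero, Fin.val_two] at E0 E2; linarith)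
  have hd0 := hdeg 0
  have hd2 := hdeg 2
  simp only [sols, List.mem_cons, List.not_mem_nil, or_false] at hsol
  rcases hsol with rfl | rfl | rfl | rfl <;> simp only [List.map_eq_cons_iff, List.map_eq_nil_iff] at hL
  · obtain ⟨⟨_, y0⟩, _, rfl, rfl, ⟨_, y1⟩, _, rfl, rfl, ⟨_, y2⟩, _, rfl, rfl, ⟨_, A⟩, _, rfl, rfl,
      ⟨_, B⟩, _, rfl, rfl, ⟨_, C⟩, _, rfl, rfl, ⟨_, D⟩, _, rfl, rfl, ⟨_, E⟩, _, rfl, rfl, rfl⟩ := hL
    simp only [List.forall_mem_cons] at hmem
    obtain ⟨-, -, -, ⟨-, cA⟩, ⟨-, cB⟩, -, ⟨-, cD⟩, ⟨-, cE⟩, -⟩ := hmem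
    simp [evz, ent, prin] at cA cB cD cE key hd0 hd2
    obtain rfl : D = -(1 + E) := by omega
    exfalso
    push_cast [div_neg] at key
    exact arith_zero (B := B) (E := E) (by omega) (by omega) (by linear_combination key)
  · obtain ⟨⟨_, y0⟩, _, rfl, rfl, ⟨_, y1⟩, _, rfl, rfl, ⟨_, y2⟩, _, rfl, rfl, ⟨_, C⟩, _, rfl, rfl,
      ⟨_, F⟩, _, rfl, rfl, ⟨_, G'⟩, _, rfl, rfl, ⟨_, H⟩, _, rfl, rfl, rfl⟩ := hL
    simp only [List.forall_mem_cons] at hmem
    obtain ⟨-, -, -, -, -, -, ⟨hH, -⟩, -⟩ := hmem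
    simp [ent, prin] at hd0 hd2 hH
    omega
  · obtain ⟨⟨_, y0⟩, _, rfl, rfl, ⟨_, y1⟩, _, rfl, rfl, ⟨_, A⟩, _, rfl, rfl, ⟨_, B⟩, _, rfl, rfl,
      ⟨_, C⟩, _, rfl, rfl, ⟨_, D⟩, _, rfl, rfl, ⟨_, E⟩, _, rfl, rfl, rfl⟩ := hL
    simp only [List.forall_mem_cons] at hmem
    obtain ⟨-, -, ⟨-, cA⟩, ⟨-, cB⟩, -, ⟨-, cD⟩, ⟨-, cE⟩, -⟩ := hmem
    simp [evz, ent, prin, -Nat.card_eq_fintype_card] at cA cB cD cE key hd0 hd2 E2
    obtain rfl : D = -(1 + E) := by omega
    obtain rfl : B = A + 1 := by omega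
    push_cast [div_neg] at key E2
    rcases arith_two (A := A) (E := E) (by omega) (by omega) (by linear_combination key) with rfl | rfl
    · right
      have : (Fintype.card G : ℚ) = 7920 := by norm_num at E2; linarith
      rw [Nat.card_eq_fintype_card]
      exact_mod_cast this
    · left
      have : (Fintype.card G : ℚ) = 5616 := by norm_num at E2; linarith
      rw [Nat.card_eq_fintype_card]
      exact_mod_cast this
  · obtain ⟨⟨_, y0⟩, _, rfl, rfl, ⟨_, y1⟩, _, rfl, rfl, ⟨_, A⟩, _, rfl, rfl, ⟨_, B⟩, _, rfl, rfl,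
      ⟨_, C⟩, _, rfl, rfl, ⟨_, D⟩, _, rfl, rfl, ⟨_, E⟩, _, rfl, rfl, rfl⟩ := hL
    simp only [List.forall_mem_cons] at hmem
    obtain ⟨-, -, -, ⟨-, cB⟩, -, ⟨-, cD⟩, ⟨-, cE⟩, -⟩ := hmem
    simp [evz, ent, prin] at cB cD cE key hd0 hd2
    obtain rfl : D = -(1 + E) := by omega
    exfalso
    push_cast [div_neg] at key
    exact arith_three (B := B) (H := E) (by omega) (by omega) (by linear_combination key)

end Setup

/-! ### The setup -/

theorem exists_iso : Nonempty (K48 ≃* Matrix.GeneralLinearGroup (Fin 2) (ZMod 3)) := by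
  have : Fact (Nat.Prime 3) := ⟨Nat.prime_three⟩
  let toMat : Mt → Matrix (Fin 2) (Fin 2) (ZMod 3) := fun M => !![M.1.1, M.2.1; M.1.2, M.2.2]
  have hmul : ∀ M N, toMat (comp M N) = toMat M * toMat N := fun M N => by
    ext i j
    fin_cases i <;> fin_cases j <;> simp [toMat, comp, app, Matrix.mul_apply, Fin.sum_univ_two] <;> ring
  have hone : toMat idm = 1 := by ext i j; fin_cases i <;> fin_cases j <;> simp [toMat, idm]
  let F : K48 →* Matrix (Fin 2) (Fin 2) (ZMod 3) :=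
    { toFun := fun k => toMat k.m, map_one' := hone, map_mul' := fun a b => hmul a.m b.m }
  let f := F.toHomUnits
  have hinj : Function.Injective f := fun a b h => by
    have h' : toMat a.m = toMat b.m := congrArg Units.val h
    refine K48.ext (Prod.ext (Prod.ext ?_ ?_) (Prod.ext ?_ ?_))
    exacts [congrFun (congrFun h' 0) 0, congrFun (congrFun h' 1) 0, congrFun (congrFun h' 0) 1,
      congrFun (congrFun h' 1) 1]
  refine ⟨MulEquiv.ofBijective f (hinj.bijective_of_nat_card_le ?_)⟩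
  have h := Matrix.card_GL_field (𝔽 := ZMod 3) 2
  rw [ZMod.card, Fin.prod_univ_two] at h
  rw [Nat.card_eq_fintype_card (α := K48), card48]
  exact le_of_eq (h.trans (by norm_num))

theorem mem_commutator_of_residual {G : Type u} [Group G] [Finite G] (h : Cfsg.pResidual 2 G = ⊤) {r : G}
    (hr : r * r = 1) : r ∈ commutator G := by
  rw [← Abelianization.ker_of G, MonoidHom.mem_ker]
  have : ∀ g : G, ∃ m : ℕ, Odd m ∧ Abelianization.of g ^ m = 1 := by
    intro g
    have hg : g ∈ Cfsg.pResidual 2 G := h ▸ Subgroup.mem_top g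
    induction hg using Subgroup.closure_induction with
    | mem x hx =>
      refine ⟨orderOf x, ?_, by rw [← map_pow, pow_orderOf_eq_one, map_one]⟩
      rcases Nat.even_or_odd (orderOf x) with he | ho
      · exfalso
        have := Nat.dvd_gcd he.two_dvd (dvd_refl 2)
        rw [show Nat.gcd (orderOf x) 2 = 1 from hx] at this
        omega
      · exact ho
    | one => exact ⟨1, odd_one, by simp⟩
    | mul x y _ _ hx hy =>
      obtain ⟨m, hm, ex⟩ := hx
      obtain ⟨n, hn, ey⟩ := hy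
      refine ⟨m * n, hm.mul hn, ?_⟩
      rw [map_mul, mul_pow, pow_mul, ex, one_pow, one_mul, mul_comm m n, pow_mul, ey, one_pow]
    | inv x _ hx =>
      obtain ⟨m, hm, ex⟩ := hx
      exact ⟨m, hm, by rw [map_inv, inv_pow, ex, inv_one]⟩
  obtain ⟨m, hm, e⟩ := this r
  obtain ⟨j, rfl⟩ := hm
  rwa [pow_succ, pow_mul, ← map_pow, pow_two, hr, map_one, one_pow, one_mul] at e

theorem exists_setup {G : Type u} [Group G] [Finite G]
    (hcomm : ∀ r : G, r * r = 1 → r ∈ commutator G) (t : G) (ht : orderOf t = 2)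
    (hC : Nonempty (centralizer ({t} : Set G) ≃* Matrix.GeneralLinearGroup (Fin 2) (ZMod 3))) :
    ∃ S : Setup G, S.φ zk = t := by
  classical
  have : Fact (Nat.Prime 2) := ⟨Nat.prime_two⟩
  obtain ⟨e⟩ := hC
  obtain ⟨e'⟩ := exists_iso
  let ι : K48 ≃* centralizer ({t} : Set G) := e'.trans e.symm
  have htC : t ∈ centralizer ({t} : Set G) := mem_centralizer_singleton_iff.2 rfl
  obtain ⟨k0, hk0⟩ := ι.surjective ⟨t, htC⟩
  have hz : k0 = zk := by
    refine (by decide +kernel : ∀ k : K48, k * k = 1 → k ≠ 1 → (∀ j : K48, j * k = k * j) → k = zk) k0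
      (ι.injective ?_) (fun e1 => ?_) (fun j => ι.injective ?_)
    · rw [map_mul, map_one, hk0]
      exact Subtype.ext (by rw [Subgroup.coe_mul, Subgroup.coe_one, ← pow_two, ← ht, pow_orderOf_eq_one])
    · rw [e1, map_one] at hk0
      rw [show t = 1 from (congrArg Subtype.val hk0).symm, orderOf_one] at ht
      omega
    · rw [map_mul, map_mul, hk0]
      exact Subtype.ext (mem_centralizer_singleton_iff.1 (ι j).2)
  subst hz
  let φ : K48 →* G := (centralizer ({t} : Set G)).subtype.comp ι.toMonoidHom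
  have hφz : φ zk = t := congrArg Subtype.val hk0
  have hinj : Function.Injective φ := fun a b h => ι.injective (Subtype.ext h)
  have hrange : φ.range = centralizer ({φ zk} : Set G) := by
    rw [hφz]
    refine SetLike.ext fun x => ⟨?_, fun hx => ?_⟩
    · rintro ⟨k, rfl⟩; exact (ι k).2
    · obtain ⟨k, hk⟩ := ι.surjective ⟨x, hx⟩
      exact ⟨k, congrArg Subtype.val hk⟩
  -- the centraliser has odd index
  have hcard : Nat.card φ.range = 48 := by
    rw [← Nat.card_congr (MonoidHom.ofInjective hinj).toEquiv, Nat.card_eq_fintype_card, card48]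
  have hodd : ¬ 2 ∣ φ.range.index := by
    obtain ⟨P⟩ : Nonempty (Sylow 2 φ.range) := inferInstance
    have hP16 : Nat.card P = 16 := by
      rw [Sylow.card_eq_multiplicity, hcard, show (48 : ℕ) = 2 ^ 4 * 3 by norm_num,
        Nat.factorization_mul (by norm_num) (by norm_num), Nat.factorization_pow]
      simp [Nat.Prime.factorization Nat.prime_two, Nat.Prime.factorization Nat.prime_three]
    obtain ⟨Q, hQ⟩ := (P.2.map φ.range.subtype).exists_le_sylow
    have hQ1 : (Q : Subgroup G) ≠ ⊥ := by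
      intro e
      have := Subgroup.card_le_of_le (hQ.trans e.le)
      rw [Subgroup.card_map_of_injective (Subgroup.subtype_injective _), hP16, Subgroup.card_bot] at this
      omega
    have : Nontrivial Q := (Subgroup.nontrivial_iff_ne_bot _).2 hQ1
    obtain ⟨u, hu⟩ := exists_prime_orderOf_dvd_card' (G := Subgroup.center Q) 2 (by
      have := Q.2.center_nontrivial
      obtain ⟨n, hn⟩ := ((Q.2.to_subgroup (Subgroup.center Q)).exists_card_eq)
      rw [hn]
      refine dvd_pow_self 2 fun e => ?_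
      rw [e, pow_zero] at hn
      exact absurd hn (Finite.one_lt_card.ne'))
    have hu' : orderOf ((u : Q) : G) = 2 := by rw [Subgroup.orderOf_coe, Subgroup.orderOf_coe, hu]
    have hucomm : ∀ q ∈ (Q : Subgroup G), q * ((u : Q) : G) = ((u : Q) : G) * q := fun q hq =>
      congrArg Subtype.val (Subgroup.mem_center_iff.1 u.2 ⟨q, hq⟩)
    -- the central involution lies in every Sylow subgroup of the centraliser
    have htP : t ∈ (Q : Subgroup G) := by
      refine hQ ⟨⟨t, ⟨zk, hφz⟩⟩, ?_, rfl⟩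
      have hcen : (⟨t, ⟨zk, hφz⟩⟩ : φ.range) ∈ Subgroup.center φ.range := by
        refine Subgroup.mem_center_iff.2 ?_
        rintro ⟨_, k, rfl⟩
        exact Subtype.ext (by
          show φ k * t = t * φ k
          rw [← hφz, ← map_mul, zk_center, map_mul])
      have hz2 : IsPGroup 2 (zpowers (⟨t, ⟨zk, hφz⟩⟩ : φ.range)) := by
        refine IsPGroup.of_card (n := 1) ?_
        rw [Nat.card_zpowers, ← Subgroup.orderOf_coe]; simpa using ht
      have hsup := @IsPGroup.to_sup_of_normal_left _ _ _ _ _ hz2 P.2 (by exact ⟨fun n hn g => by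
        obtain ⟨i, rfl⟩ := hn
        rw [(Subgroup.mem_center_iff.1 (zpow_mem hcen i) g), mul_inv_cancel_right]
        exact ⟨i, rfl⟩⟩)
      exact P.3 hsup le_sup_right ▸ Subgroup.mem_sup_left (mem_zpowers _)
    obtain ⟨ku, hku⟩ : ((u : Q) : G) ∈ φ.range := by
      rw [hrange, hφz]; exact mem_centralizer_singleton_iff.2 (hucomm t htP).symm
    have hzu : ku = zk := by
      refine invol_big ku ⟨hinj ?_, ?_⟩ ?_
      · rw [map_mul, map_one, hku, ← pow_two]; exact orderOf_dvd_iff_pow_eq_one.1 hu'.dvd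
      · intro e1; rw [e1, map_one] at hku; rw [← hku, orderOf_one] at hu'; omega
      · rw [← hP16, ← Nat.card_eq_finsetCard]
        refine Nat.card_le_card_of_injective (fun p : P => ⟨(MonoidHom.ofInjective hinj).symm p, ?_⟩) ?_
        · refine Finset.mem_filter.2 ⟨Finset.mem_univ _, hinj ?_⟩
          have hp : φ ((MonoidHom.ofInjective hinj).symm (p : φ.range)) = ((p : φ.range) : G) := by
            conv_rhs => rw [← MulEquiv.apply_symm_apply (MonoidHom.ofInjective hinj) (p : φ.range)]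
            rfl
          rw [map_mul, map_mul, hku, hp]
          exact hucomm _ (hQ ⟨_, p.2, rfl⟩)
        · intro a b h
          exact Subtype.ext ((MonoidHom.ofInjective hinj).symm.injective (congrArg Subtype.val h))
    have hQle : (Q : Subgroup G) ≤ φ.range := fun q hq => by
      rw [hrange]; exact mem_centralizer_singleton_iff.2 (by rw [← hzu, hku]; exact hucomm q hq)
    exact fun h2 => Q.not_dvd_index (h2.trans (Subgroup.index_dvd_of_le hQle))
  refine ⟨⟨φ, hinj, hrange, fun k hk => ?_⟩, hφz⟩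
  -- a single class of involutions
  by_contra hne
  have hk2 : φ k * φ k = 1 := by rw [← map_mul, hk.1, map_one]
  have hdet : det k.m ≠ 1 := fun h => hne (by
    rw [(by decide +kernel : ∀ k : K48, Invol k → det k.m = 1 → k = zk) k hk h])
  let SL : Subgroup K48 :=
    { carrier := {j | det j.m = 1}
      one_mem' := by show det idm = 1; decide
      mul_mem' := fun {a b} ha hb => by
        show det (comp a.m b.m) = 1
        rw [det_comp, show det a.m = 1 from ha, show det b.m = 1 from hb, one_mul]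
      inv_mem' := fun {a} ha => (by decide +kernel : ∀ a : K48, det a.m = 1 → det a⁻¹.m = 1) a ha }
  have hSL : ∀ {j}, φ j ∈ SL.map φ ↔ det j.m = 1 := fun {j} => Subgroup.mem_map_iff_mem hinj
  refine Cfsg.Lib.TwoFusion.not_mem_commutator (p := 2) φ.range (SL.map φ) ?_ ?_ ?_ (φ k) ⟨k, rfl⟩
    (fun h => hdet (hSL.1 h)) ⟨1, ?_⟩ ?_ (hcomm _ hk2)
  · refine ⟨?_⟩
    rintro ⟨_, a, rfl⟩ ha ⟨_, b, rfl⟩
    rw [mem_subgroupOf] at ha ⊢
    simp only [Subgroup.coe_mul, InvMemClass.coe_inv, ← map_inv, ← map_mul] at ha ⊢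
    rw [hSL] at ha ⊢
    exact (by decide +kernel : ∀ a b : K48, det a.m = 1 → det (b * a * b⁻¹).m = 1) a b ha
  · rintro _ ⟨a, rfl⟩ _ ⟨b, rfl⟩
    rw [← map_inv, ← map_inv, ← map_mul, ← map_mul, ← map_mul, hSL]
    exact (by decide +kernel : ∀ a b : K48, det (a * b * a⁻¹ * b⁻¹).m = 1) a b
  · exact (Nat.prime_two.coprime_iff_not_dvd).2 hodd
  · rw [pow_one]; exact orderOf_eq_prime (by rw [pow_two, hk2]) fun e1 => hk.2 (hinj (e1.trans φ.map_one.symm))
  · intro m a ha
    obtain ⟨q, rfl | rfl⟩ := Int.even_or_odd' m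
    · have e1 : φ k ^ (2 * q) = 1 := by rw [zpow_mul, zpow_two, hk2, one_zpow]
      rw [e1]; simp
    · have e1 : φ k ^ (2 * q + 1) = φ k := by rw [zpow_add, zpow_mul, zpow_two, hk2, one_zpow, zpow_one, one_mul]
      rw [e1] at ha ⊢
      obtain ⟨j, hj⟩ := ha
      rw [← hj, ← map_inv, ← map_mul, hSL]
      have hinvj : Invol j := by
        refine ⟨hinj ?_, fun ej => ?_⟩
        · rw [map_mul, map_one, hj, show a * φ k * a⁻¹ * (a * φ k * a⁻¹) = a * (φ k * φ k) * a⁻¹ by group, hk2,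
            mul_one, mul_inv_cancel]
        · rw [ej, map_one] at hj
          exact hk.2 (hinj ((conj_eq_one_iff.1 hj.symm).trans φ.map_one.symm))
      refine (by decide +kernel : ∀ j k : K48, Invol j → Invol k → det k.m ≠ 1 → j ≠ zk → det (j * k⁻¹).m = 1)
        j k hinvj hk hdet fun ej => hne ?_
      rw [← ej, hj]
      exact isConj_iff.2 ⟨a⁻¹, by group⟩

end Cfsg.Lib.GLTwoThree
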