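import Cfsg.Agent.LocalThree.Order9.Model
import Cfsg.Agent.LocalThree.GramSplit

/-!
`GL(2,3)` by its table, with the virtual characters carried by the section of its central involution.
-/

set_option autoImplicit false
set_option maxRecDepth 8000

namespace Cfsg.Lib.GLTwoThree

open Cfsg.Lib.Chars Cfsg.Lib.Order9

/-- The determinant. -/
def det (M : Mt) : ZMod 3 := M.1.1 * M.2.2 - M.1.2 * M.2.1

theorem det_comp (M N : Mt) : det (comp M N) = det M * det N := by
  simp only [det, comp, app]; ring

/-- An invertible matrix of size two over the field of three elements. -/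
@[ext] structure K48 where
  m : Mt
  d : det m ≠ 0
deriving DecidableEq

namespace K48

def equiv : K48 ≃ {M : Mt // det M ≠ 0} :=
  ⟨fun k => ⟨k.m, k.d⟩, fun p => ⟨p.1, p.2⟩, fun _ => rfl, fun _ => rfl⟩

instance : Fintype K48 := Fintype.ofEquiv _ equiv.symm

/-- The inverse matrix. -/
def invM (M : Mt) : Mt := ((det M * M.2.2, -(det M * M.1.2)), (-(det M * M.2.1), det M * M.1.1))

theorem invM_spec : ∀ M : Mt, det M ≠ 0 → det (invM M) ≠ 0 ∧ comp (invM M) M = idm := by decide +kernel

instance : Mul K48 := ⟨fun a b => ⟨comp a.m b.m, by rw [det_comp]; exact mul_ne_zero a.d b.d⟩⟩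

instance : One K48 := ⟨⟨idm, by decide⟩⟩

instance : Inv K48 := ⟨fun a => ⟨invM a.m, (invM_spec a.m a.d).1⟩⟩

theorem mul_m (a b : K48) : (a * b).m = comp a.m b.m := rfl

instance : Group K48 :=
  Group.ofLeftAxioms
    (fun a b c => K48.ext (app_inj_basis fun v => by simp only [mul_m, app_comp]))
    (fun a => K48.ext (app_inj_basis fun v => by
      rw [mul_m, app_comp, show (1 : K48).m = idm from rfl, app_idm]))
    (fun a => K48.ext (invM_spec a.m a.d).2)

end K48

/-- The central involution. -/
def zk : K48 := ⟨((-1, 0), (0, -1)), by decide⟩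

/-- An element of the section of the central involution. -/
abbrev InSec (k : K48) : Prop := k = zk ∨ k * k = zk ∨ k * (k * k) = zk ∨ k * k * (k * k) = zk

/-- An involution. -/
abbrev Invol (k : K48) : Prop := k * k = 1 ∧ k ≠ 1

/-- A point of the plane. -/
structure V9 where
  x : Vec
deriving DecidableEq

/-- A point of the line at infinity. -/
inductive P4
  | a | b | c | d
deriving DecidableEq

instance : Fintype P4 := ⟨{.a, .b, .c, .d}, fun x => by cases x <;> decide⟩

def v9Equiv : V9 ≃ Vec := ⟨V9.x, V9.mk, fun _ => rfl, fun _ => rfl⟩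

instance : Fintype V9 := Fintype.ofEquiv _ v9Equiv.symm

instance : MulAction K48 V9 where
  smul k p := ⟨app k.m p.x⟩
  one_smul p := by show V9.mk (app idm p.x) = p; rw [app_idm]
  mul_smul a b p := by show V9.mk (app (comp a.m b.m) p.x) = _; rw [app_comp]; rfl

def P4.vec : P4 → Vec
  | .a => (1, 0)
  | .b => (0, 1)
  | .c => (1, 1)
  | .d => (1, -1)

/-- The line through a vector. -/
def lineOf (v : Vec) : P4 := if v.2 = 0 then .a else if v.1 = 0 then .b else if v.1 = v.2 then .c else .d

instance : MulAction K48 P4 where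
  smul k p := lineOf (app k.m p.vec)
  one_smul := (by decide +kernel : ∀ p : P4, lineOf (app (1 : K48).m p.vec) = p)
  mul_smul := (by decide +kernel : ∀ a b : K48, ∀ p : P4,
    lineOf (app (a * b).m p.vec) = lineOf (app a.m (lineOf (app b.m p.vec)).vec))

/-! ### The characters -/

def one (_ : K48) : ℤ := 1

def sgn (k : K48) : ℤ := toInt (det k.m)

def sig (k : K48) : ℤ := ((Finset.univ.filter fun x : P4 => k • x = x).card : ℤ) - one k

def sig' (k : K48) : ℤ := sig k * sgn k

def rho (k : K48) : ℤ := sig k * sig k - one k - sig k - sig' k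

def theta (k : K48) : ℤ := ((Finset.univ.filter fun x : V9 => k • x = x).card : ℤ) - one k - one k - sig k

/-- The four special functions. -/
def vf : Fin 4 → K48 → ℤ :=
  ![fun k => one k + sig' k - theta k, fun k => sgn k + sig k - theta k, fun k => one k + rho k - sig k,
    fun k => one k + (theta k * rho k - theta k) - rho k - sig k]

theorem gen_sig : Cfsg.IsGeneralizedCharacter K48 (fun k => (sig k : ℂ)) :=
  gen_subInt (gen_permInt (X := P4) (fun k => _) fun _ => rfl) (gen_linInt one rfl fun _ _ => rfl)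

theorem gen_vf (i : Fin 4) : Cfsg.IsGeneralizedCharacter K48 (fun k => (vf i k : ℂ)) := by
  have h0 : Cfsg.IsGeneralizedCharacter K48 (fun k => (one k : ℂ)) := gen_linInt one rfl fun _ _ => rfl
  have h1 := gen_linInt sgn (by decide +kernel) (by decide +kernel)
  have s := gen_sig
  have s' := gen_mulInt s h1
  have r : Cfsg.IsGeneralizedCharacter K48 (fun k => (rho k : ℂ)) :=
    gen_subInt (gen_subInt (gen_subInt (gen_mulInt s s) h0) s) s'
  have V : Cfsg.IsGeneralizedCharacter K48 (fun k => (((Finset.univ.filter fun x : V9 => k • x = x).card : ℤ) : ℂ)) :=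
    gen_permInt (X := V9) (fun k => _) fun _ => rfl
  have t : Cfsg.IsGeneralizedCharacter K48 (fun k => (theta k : ℂ)) :=
    gen_subInt (gen_subInt (gen_subInt V h0) h0) s
  fin_cases i
  · exact gen_subInt (gen_addInt h0 s') t
  · exact gen_subInt (gen_addInt h1 s) t
  · exact gen_subInt (gen_addInt h0 r) s
  · exact gen_subInt (gen_subInt (gen_addInt h0 (gen_subInt (gen_mulInt t r) t)) r) s

/-! ### The checks -/

/-- The number of pairs of involutions with a product. -/
def npairs (k : K48) : ℕ := (Finset.univ.filter fun j : K48 => Invol j ∧ Invol (j⁻¹ * k)).card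

theorem bad : ∀ i k, ¬ InSec k → vf i k = 0 := by decide +kernel

theorem prin_sum : ∀ i, ∑ k, vf i k = 48 * (![1, 0, 1, 1] : Fin 4 → ℤ) i := by decide +kernel

theorem gram_sum : ∀ i j, ∑ k, vf i k * vf j k = 48 * (Cfsg.Lib.GramSplit.get
    [[2, 1, 0, 0], [1, 3, -1, -1], [0, -1, 2, 0], [0, -1, 0, 4]] i j + (![1, 0, 1, 1] : Fin 4 → ℤ) i * (![1, 0, 1, 1] : Fin 4 → ℤ) j) := by
  decide +kernel

theorem ind_center : ∀ k, 3 * vf 0 k + vf 1 k - 2 * vf 3 k = if k = zk then 48 else 0 := by decide +kernel

theorem ind_sig : ∀ k, 48 * sig k + (6 * vf 0 k - 6 * vf 1 k + 12 * vf 2 k) =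
    if k = 1 then 144 else if Invol k then 48 * sig k else 0 := by decide +kernel

theorem sum_invol : ∑ k ∈ Finset.univ.filter (fun k => Invol k), sig k = 15 := by decide +kernel

theorem sum_npairs : ∑ k, vf 0 k * (npairs k : ℤ) = 192 ∧ ∑ k, vf 2 k * (npairs k : ℤ) = 96 := by decide +kernel

theorem zk_center : ∀ k, k * zk = zk * k := by decide +kernel

theorem zk_pow : ∀ k, InSec k → ∀ n : Fin 5, k ^ (n : ℕ) ≠ 1 → k ^ (n : ℕ) * k ^ (n : ℕ) = 1 → k ^ (n : ℕ) = zk := by
  decide +kernel

theorem sec_pow : ∀ k, InSec k → ∃ n : Fin 5, k ^ (n : ℕ) = zk := by decide +kernel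

theorem invol_big : ∀ k, Invol k → 16 ≤ (Finset.univ.filter fun j : K48 => j * k = k * j).card → k = zk := by
  decide +kernel

theorem card48 : Fintype.card K48 = 48 := by decide +kernel

end Cfsg.Lib.GLTwoThree
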