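import Cfsg.Agent.TwoFusion.GLTwoThree.Order

/-!
A group with an involution whose centraliser is `GL(2,3)` and without a quotient of order two is simple.
-/

set_option autoImplicit false
set_option maxRecDepth 8000

namespace Cfsg.Lib.GLTwoThree

open Subgroup Cfsg.Lib.Order9

universe u

variable {G : Type u} [Group G] [Finite G]

theorem facts : (∀ k : K48, Invol k → k ≠ zk → Invol (k * zk) ∧ k * zk ≠ zk) ∧
    (∃ r : K48, Invol r ∧ r ≠ zk) := by
  decide +kernel

/-- The involutions generate the model. -/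
theorem word : ∀ k : K48, ∃ l : List K48, (∀ r ∈ l, Invol r) ∧ k = l.prod := by
  have key : ∀ k : K48, ∃ a b : K48, (a = 1 ∨ Invol a) ∧ (b = 1 ∨ Invol b) ∧ ((b * a * k) = 1 ∨ Invol (b * a * k)) := by
    decide +kernel
  intro k
  obtain ⟨a, b, ha, hb, hk⟩ := key k
  have hinv : ∀ r : K48, (r = 1 ∨ Invol r) → ∃ l : List K48, (∀ x ∈ l, Invol x) ∧ r = l.prod ∧ r⁻¹ = r := by
    rintro r (rfl | h)
    · exact ⟨[], by simp, by simp, inv_one⟩
    · exact ⟨[r], by simpa using h, by simp, inv_eq_of_mul_eq_one_right h.1⟩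
  obtain ⟨la, h1, h2, h2'⟩ := hinv a ha
  obtain ⟨lb, h3, h4, h4'⟩ := hinv b hb
  obtain ⟨lc, h5, h6, -⟩ := hinv _ hk
  refine ⟨la ++ lb ++ lc, fun x hx => ?_, ?_⟩
  · simp only [List.mem_append] at hx
    rcases hx with (h | h) | h
    exacts [h1 x h, h3 x h, h5 x h]
  · rw [List.prod_append, List.prod_append, ← h2, ← h4, ← h6]
    calc k = a⁻¹ * b⁻¹ * (b * a * k) := by group
      _ = _ := by rw [h2', h4']

namespace Setup

variable (S : Setup G)
include S

theorem odd_core {r : G} (hr : r ∈ centralizer ({S.φ zk} : Set G)) (N : Subgroup G) [N.Normal]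
    (hN : Odd (Nat.card N)) (hrN : r ∈ N) : r = 1 := by
  classical
  obtain ⟨k, rfl⟩ := S.mem_range.1 hr
  have hex : ∀ k : K48, k ≠ 1 → ∃ c : K48, (c * k * c⁻¹ * k⁻¹) * (c * k * c⁻¹ * k⁻¹) = 1 ∧ c * k * c⁻¹ * k⁻¹ ≠ 1 ∨
      Invol k ∨ Invol (k * k) ∨ Invol (k * k * (k * k)) ∨ Invol (k * (k * k)) ∨
      (c * k * c⁻¹ * k⁻¹) * (c * k * c⁻¹ * k⁻¹) * ((c * k * c⁻¹ * k⁻¹) * (c * k * c⁻¹ * k⁻¹)) = 1 ∧
        (c * k * c⁻¹ * k⁻¹) * (c * k * c⁻¹ * k⁻¹) ≠ 1 := by decide +kernel
  by_contra hne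
  have hk : k ≠ 1 := fun e => hne (by rw [e, map_one])
  have hno : ∀ q : K48, S.φ q ∈ N → q * q = 1 → q = 1 := by
    intro q hq h2
    by_contra hq1
    have ho : orderOf (S.φ q) = 2 := orderOf_eq_prime (by rw [pow_two, ← map_mul, h2, map_one])
      fun e => hq1 (S.inj (e.trans S.φ.map_one.symm))
    have := Subgroup.orderOf_mk (S.φ q) hq ▸ orderOf_dvd_natCard (⟨S.φ q, hq⟩ : N)
    rw [ho] at this
    exact (Nat.not_even_iff_odd.2 hN) (even_iff_two_dvd.2 this)
  obtain ⟨c, h⟩ := hex k hk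
  have hc : S.φ (c * k * c⁻¹ * k⁻¹) ∈ N := by
    rw [map_mul, map_mul, map_mul, map_inv, map_inv]
    exact N.mul_mem ((inferInstance : N.Normal).conj_mem _ hrN _) (inv_mem hrN)
  rcases h with h | h | h | h | h | h
  · exact h.2 (hno _ hc h.1)
  · exact h.2 (hno _ hrN h.1)
  · exact h.2 (hno _ (by rw [map_mul]; exact mul_mem hrN hrN) h.1)
  · exact h.2 (hno _ (by rw [map_mul, map_mul]; exact mul_mem (mul_mem hrN hrN) (mul_mem hrN hrN)) h.1)
  · exact h.2 (hno _ (by rw [map_mul, map_mul]; exact mul_mem hrN (mul_mem hrN hrN)) h.1)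
  · exact h.2 (hno _ (by rw [map_mul]; exact mul_mem hc hc) h.1)

theorem odd_index : ¬ 2 ∣ (centralizer ({S.φ zk} : Set G)).index := by
  intro h
  have hd := Nat.mul_dvd_mul_left 48 h
  have hc := card_mul_index (centralizer ({S.φ zk} : Set G))
  rw [S.card_cent] at hc
  rw [hc] at hd
  rcases S.order with e | e <;> rw [e] at hd <;> omega

theorem exists_conj_of_invol {r : G} (hr : r * r = 1) (hr1 : r ≠ 1) : IsConj (S.φ zk) r := by
  classical
  have : Fact (Nat.Prime 2) := ⟨Nat.prime_two⟩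
  obtain ⟨P⟩ : Nonempty (Sylow 2 (centralizer ({S.φ zk} : Set G))) := inferInstance
  obtain ⟨Q, hQ⟩ := (P.2.map (centralizer ({S.φ zk} : Set G)).subtype).exists_le_sylow
  have hQle : (Q : Subgroup G) ≤ centralizer ({S.φ zk} : Set G) := by
    refine (Subgroup.eq_of_le_of_card_ge hQ ?_).ge.trans ((Subgroup.map_subtype_le _))
    rw [Subgroup.card_map_of_injective (Subgroup.subtype_injective _), Sylow.card_eq_multiplicity,
      Sylow.card_eq_multiplicity, S.card_cent]
    rcases S.order with e | e <;> rw [e]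
    · rw [show (5616 : ℕ) = 2 ^ 4 * (3 ^ 3 * 13) by norm_num, show (48 : ℕ) = 2 ^ 4 * 3 by norm_num,
        Nat.factorization_mul (by norm_num) (by norm_num), Nat.factorization_mul (by norm_num) (by norm_num),
        Nat.factorization_pow, Nat.factorization_mul (by norm_num) (by norm_num), Nat.factorization_pow]
      simp [Nat.Prime.factorization Nat.prime_two, Nat.Prime.factorization Nat.prime_three,
        Nat.Prime.factorization (show Nat.Prime 13 by norm_num)]
      rw [show (16 : ℕ) = 2 ^ 4 by norm_num, Nat.Prime.factorization_pow Nat.prime_two]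
      simp
    · rw [show (7920 : ℕ) = 2 ^ 4 * (3 ^ 2 * 55) by norm_num, show (48 : ℕ) = 2 ^ 4 * 3 by norm_num,
        Nat.factorization_mul (by norm_num) (by norm_num), Nat.factorization_mul (by norm_num) (by norm_num),
        Nat.factorization_pow, Nat.factorization_mul (by norm_num) (by norm_num), Nat.factorization_pow]
      simp [Nat.Prime.factorization Nat.prime_two, Nat.Prime.factorization Nat.prime_three,
        Nat.factorization_eq_zero_of_not_dvd (show ¬ 2 ∣ 55 by norm_num)]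
      rw [show (16 : ℕ) = 2 ^ 4 by norm_num, Nat.Prime.factorization_pow Nat.prime_two]
      simp
  have hp : IsPGroup 2 (zpowers r) := IsPGroup.of_card (n := 1) (by
    rw [Nat.card_zpowers, orderOf_eq_prime (by rw [pow_two, hr]) hr1, pow_one])
  obtain ⟨R, hR⟩ := hp.exists_le_sylow
  obtain ⟨g, hg⟩ := MulAction.exists_smul_eq G R Q
  have hm : g * r * g⁻¹ ∈ (Q : Subgroup G) := by
    rw [← hg, Sylow.coe_subgroup_smul]; exact ⟨r, hR (mem_zpowers _), rfl⟩
  obtain ⟨k, hk⟩ := S.mem_range.1 (hQle hm)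
  refine (S.one k ⟨S.inj ?_, fun e => hr1 ?_⟩).trans (isConj_iff.2 ⟨g⁻¹, by rw [hk]; group⟩)
  · rw [map_mul, hk, map_one, show g * r * g⁻¹ * (g * r * g⁻¹) = g * (r * r) * g⁻¹ by group, hr, mul_one,
      mul_inv_cancel]
  · rw [e, map_one] at hk; exact conj_eq_one_iff.1 hk.symm

theorem eq_bot_of_odd (N : Subgroup G) [N.Normal] (hodd : Odd (Nat.card N)) : N = ⊥ := by
  -- the three involutions of a four-group each invert `N`
  have hfix : ∀ s : G, IsConj (S.φ zk) s → ∀ x ∈ N, s * x * s⁻¹ = x → x = 1 := by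
    intro s hs x hx hsx
    obtain ⟨g, rfl⟩ := isConj_iff.1 hs
    have hx' : g⁻¹ * x * g = 1 := by
      refine S.odd_core (mem_centralizer_singleton_iff.2 ?_) N hodd
        (by simpa using (inferInstance : N.Normal).conj_mem _ hx g⁻¹)
      calc g⁻¹ * x * g * S.φ zk = g⁻¹ * (x * (g * S.φ zk * g⁻¹)) * g := by group
        _ = g⁻¹ * ((g * S.φ zk * g⁻¹) * x) * g := by rw [mul_inv_eq_iff_eq_mul.1 hsx]
        _ = _ := by group
    calc x = g * (g⁻¹ * x * g) * g⁻¹ := by group
      _ = 1 := by rw [hx']; group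
  have hinv : ∀ s : G, IsConj (S.φ zk) s → ∀ x ∈ N, s * x * s⁻¹ = x⁻¹ := by
    intro s hs x hx
    obtain ⟨y, hy⟩ : ∃ y : N, (y : G)⁻¹ * (s * y * s⁻¹) = x := by
      have hinj : Function.Injective fun y : N => (⟨(y : G)⁻¹ * (s * y * s⁻¹),
          mul_mem (inv_mem y.2) ((inferInstance : N.Normal).conj_mem _ y.2 s)⟩ : N) := by
        intro a b hab
        have e : (a : G)⁻¹ * (s * a * s⁻¹) = (b : G)⁻¹ * (s * b * s⁻¹) := congrArg Subtype.val hab
        refine Subtype.ext (mul_inv_eq_one.1 (hfix s hs ((a : G) * (b : G)⁻¹) (mul_mem a.2 (inv_mem b.2)) ?_))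
        calc s * ((a : G) * (b : G)⁻¹) * s⁻¹ = (a : G) * ((a : G)⁻¹ * (s * a * s⁻¹)) * (s * b * s⁻¹)⁻¹ := by group
          _ = _ := by rw [e]; group
      obtain ⟨y, hy⟩ := (Finite.injective_iff_surjective.1 hinj) ⟨x, hx⟩
      exact ⟨y, congrArg Subtype.val hy⟩
    have h2 : s * s = 1 := by
      obtain ⟨g, rfl⟩ := isConj_iff.1 hs
      rw [show g * S.φ zk * g⁻¹ * (g * S.φ zk * g⁻¹) = g * (S.φ zk * S.φ zk) * g⁻¹ by group, ← map_mul,
        show zk * zk = 1 by decide +kernel, map_one, mul_one, mul_inv_cancel]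
    have hsi : s⁻¹ = s := inv_eq_of_mul_eq_one_right h2
    rw [← hy, hsi]
    calc s * ((y : G)⁻¹ * (s * y * s)) * s = s * (y : G)⁻¹ * s * y * (s * s) := by group
      _ = s⁻¹ * (y : G)⁻¹ * s⁻¹ * y := by rw [h2, hsi]; group
      _ = _ := by rw [hsi]; rw [mul_inv_rev, mul_inv_rev, mul_inv_rev, inv_inv, hsi]; group
  obtain ⟨r, hr, hrz⟩ := facts.2
  refine eq_bot_iff.2 fun x hx => mem_bot.2 ?_
  have e1 := hinv _ (IsConj.refl (S.φ zk)) x hx
  have e2 := hinv _ (S.one r hr) _ (inv_mem hx)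
  rw [inv_inv] at e2
  refine hfix _ (S.one (r * zk) (facts.1 r hr hrz).1) x hx ?_
  rw [map_mul, mul_inv_rev]
  calc S.φ r * S.φ zk * x * ((S.φ zk)⁻¹ * (S.φ r)⁻¹) = S.φ r * (S.φ zk * x * (S.φ zk)⁻¹) * (S.φ r)⁻¹ := by group
    _ = x := by rw [e1, e2]

theorem mem_normal_even (N : Subgroup G) [hN : N.Normal] (hev : 2 ∣ Nat.card N) {s : G} (hs : s * s = 1) : s ∈ N := by
  by_cases hs1 : s = 1
  · exact hs1 ▸ one_mem N
  have : Fact (Nat.Prime 2) := ⟨Nat.prime_two⟩
  obtain ⟨a, ha⟩ := exists_prime_orderOf_dvd_card' (G := N) 2 hev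
  have ha' : orderOf (a : G) = 2 := by rwa [Subgroup.orderOf_coe]
  obtain ⟨g, hg⟩ := isConj_iff.1 ((S.exists_conj_of_invol (r := (a : G))
    (by rw [← pow_two]; exact orderOf_dvd_iff_pow_eq_one.1 ha'.dvd)
    (fun e => by rw [e, orderOf_one] at ha'; omega)).symm.trans (S.exists_conj_of_invol hs hs1))
  exact hg ▸ hN.conj_mem _ a.2 g

theorem isSimple : IsSimpleGroup G := by
  classical
  have h1 : Nontrivial G := ⟨⟨S.φ zk, 1, fun e => absurd (S.inj (e.trans S.φ.map_one.symm)) (by decide +kernel)⟩⟩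
  refine ⟨fun N hN => ?_⟩
  by_cases hodd : Odd (Nat.card N)
  · exact Or.inl (S.eq_bot_of_odd N hodd)
  · right
    have hev : 2 ∣ Nat.card N := even_iff_two_dvd.1 (Nat.not_odd_iff_even.1 hodd)
    have hC : centralizer ({S.φ zk} : Set G) ≤ N := by
      intro x hx
      obtain ⟨k, rfl⟩ := S.mem_range.1 hx
      obtain ⟨l, hl, rfl⟩ := word k
      rw [map_list_prod]
      refine list_prod_mem fun y hy => ?_
      obtain ⟨r, hr, rfl⟩ := List.mem_map.1 hy
      exact S.mem_normal_even N hev (by rw [← map_mul, (hl r hr).1, map_one])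
    let ψ : K48 →* N := S.φ.codRestrict N fun k => hC (S.mem_range.2 ⟨k, rfl⟩)
    have hz2 : (ψ zk) * ψ zk = 1 := by rw [← map_mul, show zk * zk = 1 by decide +kernel, map_one]
    have hz1 : ψ zk ≠ 1 := fun e => absurd (S.inj ((congrArg Subtype.val e).trans S.φ.map_one.symm))
      (by decide +kernel)
    -- the derived subgroup of `N` is normal of even order, so it contains every involution
    obtain ⟨a, b, hab⟩ := (by decide +kernel : ∃ a b : K48, a * b * a⁻¹ * b⁻¹ = zk)
    have hd : (2 : ℕ) ∣ Nat.card (⁅N, N⁆ : Subgroup G) := by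
      have hm : S.φ zk ∈ (⁅N, N⁆ : Subgroup G) := by
        rw [← hab, map_mul, map_mul, map_mul, map_inv, map_inv]
        exact commutator_mem_commutator (hC (S.mem_range.2 ⟨a, rfl⟩)) (hC (S.mem_range.2 ⟨b, rfl⟩))
      have ho : orderOf (S.φ zk) = 2 := orderOf_eq_prime (by rw [pow_two]; exact congrArg Subtype.val hz2)
        fun e => hz1 (Subtype.ext e)
      have := Subgroup.orderOf_mk (S.φ zk) hm ▸ orderOf_dvd_natCard (⟨_, hm⟩ : (⁅N, N⁆ : Subgroup G))
      rwa [ho] at this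
    have hcommN : ∀ s : N, s * s = 1 → s ∈ _root_.commutator N := by
      intro s hs
      rw [← Subgroup.mem_map_iff_mem (N.subtype_injective), commutator_def, Subgroup.map_commutator,
        ← MonoidHom.range_eq_map, Subgroup.range_subtype]
      exact S.mem_normal_even ⁅N, N⁆ hd (congrArg Subtype.val hs)
    let e : centralizer ({ψ zk} : Set N) ≃* centralizer ({S.φ zk} : Set G) :=
      { toFun := fun x => ⟨((x : N) : G), mem_centralizer_singleton_iff.2
          (congrArg Subtype.val (mem_centralizer_singleton_iff.1 x.2))⟩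
        invFun := fun y => ⟨⟨(y : G), hC y.2⟩, mem_centralizer_singleton_iff.2
          (Subtype.ext (mem_centralizer_singleton_iff.1 y.2))⟩
        left_inv := fun x => rfl
        right_inv := fun y => rfl
        map_mul' := fun x y => rfl }
    obtain ⟨e'⟩ := exists_iso
    obtain ⟨T, -⟩ := exists_setup hcommN (ψ zk) (orderOf_eq_prime (by rw [pow_two, hz2]) hz1)
      ⟨e.trans (S.iso.symm.trans e')⟩
    rcases Nat.lt_or_ge (Nat.card N) (Nat.card G) with hlt | hge
    · exfalso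
      have hdvd := Subgroup.card_subgroup_dvd_card N
      rcases S.order with h | h <;> rcases T.order with h' | h' <;> rw [h, h'] at hdvd hlt <;> omega
    · exact Subgroup.eq_top_of_le_card N hge

end Setup

end Cfsg.Lib.GLTwoThree
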